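import Cfsg.Agent.H335.Pw.Count
import Cfsg.Agent.S2457
import Cfsg.Agent.S2458
import Cfsg.Agent.H84.TwF4Cover
import Cfsg.Agent.H84.TitsLink
import Cfsg.Agent.H680.ExcSz
import Cfsg.Agent.LieRecognition.ReeFinal

/-!
# The rows Sz, ²G₂, ²F₄, Tits of S2465 (helper335)

* `pw_sz`, `pw_ree` : complete rows;
* `six_2F4` : products of two elements of order prime to `6` in `²F₄(q)`;
* `pw_tits` : the Tits group.
-/

set_option autoImplicit false
set_option linter.unusedSectionVars false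

namespace Cfsg.Agent.H335.Pw

open Cfsg Cfsg.Agent.H78.Pw

/-! ### Arithmetic -/

theorem two_pow_odd_mod (m : ℕ) : 2 ^ (2 * m + 1) % 5 = 2 ∨ 2 ^ (2 * m + 1) % 5 = 3 := by
  induction m with
  | zero => left; norm_num
  | succ m ih =>
    have e : 2 ^ (2 * (m + 1) + 1) = 4 * 2 ^ (2 * m + 1) := by ring
    rw [e]
    omega

theorem two_pow_odd_mod3 (m : ℕ) : 2 ^ (2 * m + 1) % 3 = 2 := by
  induction m with
  | zero => norm_num
  | succ m ih =>
    have e : 2 ^ (2 * (m + 1) + 1) = 4 * 2 ^ (2 * m + 1) := by ring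
    rw [e]
    omega

theorem three_pow_odd_mod7 (m : ℕ) : 3 ^ (2 * m + 1) % 7 = 3 ∨ 3 ^ (2 * m + 1) % 7 = 6 ∨ 3 ^ (2 * m + 1) % 7 = 5 := by
  induction m with
  | zero => left; norm_num
  | succ m ih =>
    have e : 3 ^ (2 * (m + 1) + 1) = 9 * 3 ^ (2 * m + 1) := by ring
    rw [e]
    omega

theorem three_pow_odd_mod4 (m : ℕ) : 3 ^ (2 * m + 1) % 4 = 3 := by
  induction m with
  | zero => norm_num
  | succ m ih =>
    have e : 3 ^ (2 * (m + 1) + 1) = 9 * 3 ^ (2 * m + 1) := by ring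
    rw [e]
    omega

theorem seven_dvd_cube (m : ℕ) : 7 ∣ (3 ^ (2 * m + 1)) ^ 3 + 1 := by
  have key : ∀ a : ℕ, a % 7 = 3 ∨ a % 7 = 6 ∨ a % 7 = 5 → (a ^ 3 + 1) % 7 = 0 := by
    rintro a (h | h | h) <;> rw [Nat.add_mod, Nat.pow_mod, h]
  exact Nat.dvd_of_mod_eq_zero (key _ (three_pow_odd_mod7 m))

/-! ### Suzuki groups -/

theorem pw_Sz {F : Type*} [Field F] [Fintype F] {m : ℕ} (hm : 1 ≤ m) (hF : Fintype.card F = 2 ^ (2 * m + 1)) :
    Pw ↥(Cfsg.Lie.Sz F (2 ^ (m + 1))) := by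
  have hfin : Finite ↥(Cfsg.Lie.Sz F (2 ^ (m + 1))) := inferInstance
  have hcard : Nat.card ↥(Cfsg.Lie.Sz F (2 ^ (m + 1))) =
      ((2 ^ (2 * m + 1)) ^ 2 + 1) * ((2 ^ (2 * m + 1)) ^ 2 * (2 ^ (2 * m + 1) - 1)) := by
    rw [← Nat.card_congr (Cfsg.Agent.H680.Exc.iso hm hF).toEquiv]
    exact Cfsg.Agent.LieExceptional.SuzukiSylow.card_Sz hm hF
  have key : ∀ r : ℕ, r.Prime → 2 < r → r ∣ Nat.card ↥(Cfsg.Lie.Sz F (2 ^ (m + 1))) → ∀ n, r.Coprime n →
      All n ↥(Cfsg.Lie.Sz F (2 ^ (m + 1))) := by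
    intro r hr h2 hd n hn
    have := Fact.mk hr
    obtain ⟨x, hx⟩ := exists_prime_orderOf_dvd_card' r hd
    exact all_of_cover (x := x) (by rwa [hx]) (Cfsg.Agent.S2457.result m hm hF x (by rwa [hx]))
  have h5 : 5 ∣ Nat.card ↥(Cfsg.Lie.Sz F (2 ^ (m + 1))) := by
    rw [hcard]
    exact (Cfsg.Agent.H84.SzLevi.five_dvd m).mul_right _
  refine ⟨key 5 (by norm_num) (by norm_num) h5 6 (by norm_num), fun p hp hp5 => ?_⟩
  by_cases h : p = 5
  · subst h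
    have hq : 2 ^ 3 ≤ 2 ^ (2 * m + 1) := Nat.pow_le_pow_right (by norm_num) (by omega)
    have hne : 2 ^ (2 * m + 1) - 1 ≠ 1 := by omega
    have hr := Nat.minFac_prime hne
    have hd := Nat.minFac_dvd (2 ^ (2 * m + 1) - 1)
    set r := Nat.minFac (2 ^ (2 * m + 1) - 1) with hrd
    have hodd : ¬ 2 ∣ 2 ^ (2 * m + 1) - 1 := by
      have : 2 ∣ 2 ^ (2 * m + 1) := dvd_pow_self 2 (by omega)
      omega
    have hr2 : r ≠ 2 := fun h => hodd (h ▸ hd)
    have hr5 : ¬ r = 5 := by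
      intro h
      rw [h] at hd
      have := two_pow_odd_mod m
      omega
    refine key r hr (lt_of_le_of_ne hr.two_le (Ne.symm hr2)) ?_ 5 ((Nat.coprime_primes hr (by norm_num)).2 hr5)
    rw [hcard]
    exact (hd.mul_left _).mul_left _
  · exact key 5 (by norm_num) (by norm_num) h5 p ((Nat.coprime_primes (by norm_num) hp).2 (Ne.symm h))

theorem pw_sz {G : Type*} [Group G] (h : Cfsg.Lie.IsoSuzuki G) : Pw G := by
  obtain ⟨F, _, _, m, hm, hF, ⟨e⟩⟩ := h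
  exact (pw_Sz hm hF).congr e.symm

/-! ### Small Ree groups -/

theorem pw_Ree {K : Type*} [Field K] [Fintype K] {m : ℕ} (hm : 1 ≤ m) (hK : Fintype.card K = 3 ^ (2 * m + 1)) :
    Pw ↥(Cfsg.Lie.twistedG2 K (3 ^ m)) := by
  have hfin : Finite ↥(Cfsg.Lie.twistedG2 K (3 ^ m)) := inferInstance
  have hcard := Cfsg.Agent.LieRecognition.ReeFinal.card hK
  have key : ∀ r : ℕ, r.Prime → 2 < r → r ≠ 3 → r ∣ Nat.card ↥(Cfsg.Lie.twistedG2 K (3 ^ m)) → ∀ n, r.Coprime n →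
      All n ↥(Cfsg.Lie.twistedG2 K (3 ^ m)) := by
    intro r hr h2 h3 hd n hn
    have := Fact.mk hr
    obtain ⟨x, hx⟩ := exists_prime_orderOf_dvd_card' r hd
    refine all_of_cover (x := x) (by rwa [hx]) (Cfsg.Agent.S2458.result m hm hK x (by rwa [hx]) ?_)
    rw [hx]
    intro h
    exact h3 ((Nat.prime_dvd_prime_iff_eq (by norm_num) hr).1 h).symm
  have h7 : 7 ∣ Nat.card ↥(Cfsg.Lie.twistedG2 K (3 ^ m)) := by
    rw [hcard]
    exact (seven_dvd_cube m).mul_left _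
  refine ⟨key 7 (by norm_num) (by norm_num) (by norm_num) h7 6 (by norm_num), fun p hp hp5 => ?_⟩
  by_cases h : p = 7
  · subst h
    have hq : 3 ^ 3 ≤ 3 ^ (2 * m + 1) := Nat.pow_le_pow_right (by norm_num) (by omega)
    have h4 := three_pow_odd_mod4 m
    obtain ⟨k, hk⟩ : ∃ k, 3 ^ (2 * m + 1) - 1 = 2 * k := ⟨(3 ^ (2 * m + 1) - 1) / 2, by omega⟩
    have hne : k ≠ 1 := by omega
    have hr := Nat.minFac_prime hne
    have hd := Nat.minFac_dvd k
    set r := Nat.minFac k with hrd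
    have hr2 : r ≠ 2 := by
      intro h
      rw [h] at hd
      omega
    have hr3 : r ≠ 3 := by
      intro h
      rw [h] at hd
      have : 3 ∣ 3 ^ (2 * m + 1) := dvd_pow_self 3 (by omega)
      omega
    have hr7 : ¬ r = 7 := by
      intro h
      rw [h] at hd
      have := three_pow_odd_mod7 m
      omega
    refine key r hr (lt_of_le_of_ne hr.two_le (Ne.symm hr2)) hr3 ?_ 7 ((Nat.coprime_primes hr (by norm_num)).2 hr7)
    rw [hcard, hk]
    exact ((hd.mul_left 2).mul_left _).mul_right _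
  · exact key 7 (by norm_num) (by norm_num) (by norm_num) h7 p
      ((Nat.coprime_primes (by norm_num) hp).2 (Ne.symm h))

theorem pw_ree {G : Type*} [Group G] (h : Cfsg.Lie.IsoRee G) : Pw G := by
  obtain ⟨K, _, _, m, hm, hK, ⟨e⟩⟩ := h
  exact (pw_Ree hm hK).congr e.symm

/-! ### Large Ree groups -/

open Cfsg.Agent.KFacts.TwF4 Cfsg.Agent.H84.GaussTwF4
open Cfsg.Agent.KFacts.TwF4.Inst Cfsg.Agent.ChevalleyStructure.TwF4.TwistedFix in
/-- `²F₄(q)`, `q ≥ 8` : a class of order dividing `5 (q - 1)` -/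
theorem cover_twF4 {K : Type*} [Field K] [Fintype K] {m : ℕ} (hm : 1 ≤ m) (hK : Fintype.card K = 2 ^ (2 * m + 1)) :
    ∃ x : ↥(Cfsg.Lie.twistedF4 K (2 ^ m)), orderOf x ∣ 5 * (2 ^ (2 * m + 1) - 1) ∧
      ∀ g : ↥(Cfsg.Lie.twistedF4 K (2 ^ m)), g ≠ 1 →
      ∃ u v : ↥(Cfsg.Lie.twistedF4 K (2 ^ m)), g = (u * x * u⁻¹) * (v * x * v⁻¹) := by
  have hchar := Cfsg.Agent.ChevalleyStructure.TwF4.Twisted.charP_two hK
  obtain ⟨φ, hφ⟩ := exists_rln hK
  have hfin : Finite (GL Cfsg.Lie.chevF4.Idx K) := inferInstance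
  have hq : 2 ^ 3 ≤ 2 ^ (2 * m + 1) := Nat.pow_le_pow_right (by norm_num) (by omega)
  have hcard : Nat.card Kˣ = 2 ^ (2 * m + 1) - 1 := by rw [Nat.card_units, Nat.card_eq_fintype_card, hK]
  obtain ⟨s, hs, hs5, hcov⟩ := LL_cover (full hK hφ) (k := 2 * m + 1) (by omega)
    (by rw [Nat.card_eq_fintype_card, hK])
  obtain ⟨d, hd⟩ : ∃ d : Kˣ, d ≠ 1 := by
    classical
    have h1 : 1 < Fintype.card Kˣ := by
      rw [Fintype.card_units, hK]
      omega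
    exact Fintype.exists_ne_of_one_lt_card h1 1
  have hd5 : d ^ 5 ≠ 1 := by
    intro h
    have h1 := orderOf_dvd_of_pow_eq_one h
    have h2 := orderOf_dvd_natCard d
    rw [hcard] at h2
    rcases (Nat.dvd_prime (by norm_num : Nat.Prime 5)).1 h1 with h3 | h3
    · exact hd (orderOf_eq_one_iff.1 h3)
    · rw [h3] at h2
      exact Cfsg.Agent.H84.TwF4Cover.five_not_dvd m h2
  refine ⟨s * (full hK hφ).h 1 d, ?_, fun g hg => cover hs hs5 hcov hd5 hg⟩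
  have h1 : (s * (full hK hφ).h 1 d) ^ (5 * (2 ^ (2 * m + 1) - 1)) = 1 := by
    have hc : Commute s ((full hK hφ).h 1 d) := (h_comm_LL d hs).symm
    rw [hc.mul_pow, pow_mul, hs5, one_pow, one_mul, h_pow', mul_comm, pow_mul, ← hcard, pow_card_eq_one', one_pow,
      (full hK hφ).h_one]
  exact orderOf_dvd_of_pow_eq_one h1

theorem six_twF4 {K : Type*} [Field K] [Fintype K] {m : ℕ} (hm : 1 ≤ m) (hK : Fintype.card K = 2 ^ (2 * m + 1)) :
    All 6 ↥(Cfsg.Lie.twistedF4 K (2 ^ m)) := by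
  obtain ⟨x, hx, h⟩ := cover_twF4 hm hK
  refine all_of_cover (Nat.Coprime.of_dvd_left hx ?_) h
  have h2 : 2 ∣ 2 ^ (2 * m + 1) := dvd_pow_self 2 (by omega)
  have h3 := two_pow_odd_mod3 m
  have h1 : 1 ≤ 2 ^ (2 * m + 1) := Nat.one_le_two_pow
  have e : Nat.Coprime (2 ^ (2 * m + 1) - 1) 6 := by
    have e2 : Nat.Coprime (2 ^ (2 * m + 1) - 1) 2 :=
      ((Nat.Prime.coprime_iff_not_dvd Nat.prime_two).2 (by omega)).symm
    have e3 : Nat.Coprime (2 ^ (2 * m + 1) - 1) 3 :=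
      ((Nat.Prime.coprime_iff_not_dvd Nat.prime_three).2 (by omega)).symm
    have := e2.mul_right e3
    exact this
  exact Nat.Coprime.mul_left (by norm_num) e

theorem six_2F4 {G : Type*} [Group G] (h : Cfsg.Lie.Iso2F4 G) : All 6 G := by
  obtain ⟨K, _, _, m, hm, hK, ⟨e⟩⟩ := h
  exact (six_twF4 hm hK).congr e.symm

/-! ### The Tits group -/

theorem pow5_of {G : Type*} [Group G] {a b : G} (h : a * b = b * a) (ha : a ^ 5 = 1) (hb : b ^ 5 = 1) (i j : ℕ) :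
    (a ^ i * b ^ j) ^ 5 = 1 := by
  have hc : Commute a b := h
  rw [(hc.pow_pow i j).mul_pow, ← pow_mul, ← pow_mul, mul_comm i, mul_comm j, pow_mul, pow_mul, ha, hb, one_pow,
    one_pow, one_mul]

theorem of_conj_pow {G : Type*} [Group G] {g s : G} {n : ℕ} (h : (g * s * g⁻¹) ^ n = 1) : s ^ n = 1 := by
  rw [conj_pow, mul_inv_eq_one, mul_eq_left] at h
  exact h

theorem pow5_of' {G : Type*} [Group G] {a b y : G} (h : a * b = b * a) (ha : a ^ 5 = 1) (hb : b ^ 5 = 1) {i j : ℕ}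
    (e : y = a ^ i * b ^ j) : y ^ 5 = 1 := by
  rw [e]
  exact pow5_of h ha hb i j

theorem exp_generic {G : Type*} [Group G] [Finite G] [Fact (Nat.Prime 5)] (S : Sylow 5 G)
    (hS : ∀ y ∈ (S : Subgroup G), y ^ 5 = 1) (t : G) : ¬ 5 * 5 ∣ orderOf t := by
  intro hd
  obtain ⟨c, hc⟩ := hd
  have hpos : 0 < orderOf t := orderOf_pos t
  have hc0 : c ≠ 0 := by rintro rfl; omega
  set s := t ^ c with hs
  have ho : orderOf s = 25 := by
    rw [hs, orderOf_pow' t hc0, hc, Nat.gcd_eq_right (Dvd.intro_left _ rfl)]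
    exact Nat.mul_div_cancel _ (Nat.pos_of_ne_zero hc0)
  have hs25 : s ^ 5 ^ 2 = 1 := by
    have := pow_orderOf_eq_one s
    rwa [ho] at this
  have hp : IsPGroup 5 (Subgroup.zpowers s) := by
    rintro ⟨x, k, rfl⟩
    refine ⟨2, ?_⟩
    apply Subtype.ext
    show (s ^ k) ^ 5 ^ 2 = 1
    rw [← zpow_natCast, ← zpow_mul, mul_comm, zpow_mul, zpow_natCast, hs25, one_zpow]
  obtain ⟨Q, hQ⟩ := hp.exists_le_sylow
  obtain ⟨g, hg⟩ := MulAction.exists_smul_eq G Q S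
  have h1 : s ∈ (Q : Subgroup G) := hQ (Subgroup.mem_zpowers s)
  have h3 : g * s * g⁻¹ ∈ (S : Subgroup G) := by
    rw [← hg, Sylow.coe_subgroup_smul]
    exact Subgroup.smul_mem_pointwise_smul s (MulAut.conj g) _ h1
  have h5 : s ^ 5 = 1 := of_conj_pow (hS _ h3)
  have h6 := orderOf_dvd_of_pow_eq_one h5
  rw [ho] at h6
  omega

theorem ne_one_of_orderOf {G : Type*} [Group G] {x : G} (h : orderOf x = 5) : x ≠ 1 := by
  rintro rfl
  rw [orderOf_one] at h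
  omega

theorem transfer_commutator {Γ : Type*} [Group Γ] (K : Subgroup Γ) {M : Type*} [Group M]
    (f : M ≃* commutator K) (h : Pw (commutator K)) : Pw M := h.congr f.symm

theorem of_eq_conj {G : Type*} [Group G] {g s f : G} (h : s = g * f * g⁻¹) : g⁻¹ * s * g⁻¹⁻¹ = f := by
  rw [h]; group


open Cfsg.Agent.ChevalleyStructure.Tits.Pack Cfsg.Agent.ChevalleyStructure.Tits.Data
  Cfsg.Agent.ChevalleyStructure.Tits.Cert Cfsg.Agent.ChevalleyStructure.Tits.Rank2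
  Cfsg.Agent.ChevalleyStructure.Tits.Sat Cfsg.Agent.ChevalleyStructure.Tits.Final
  Cfsg.Agent.ChevalleyStructure.Tits.Mat Cfsg.Agent.ChevalleyStructure.Tits.Order
  Cfsg.Agent.ChevalleyStructure.Tits.Table Cfsg.Agent.ChevalleyStructure.Tits.Main
  Cfsg.Agent.H84.TitsConj Cfsg.Agent.H84.TitsCov Cfsg.Agent.H84.TitsCovData Cfsg.Agent.H84.TitsCovChk in
open Cfsg.Agent.H246.TitsComp hiding go go_ok go_zero go_succ_even go_succ_odd sound in
theorem exp_H0 (t : H0) : ¬ 5 * 5 ∣ orderOf t := by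
  have hf5 : Fact (Nat.Prime 5) := ⟨by norm_num⟩
  refine exp_generic syl5 (fun y hy => ?_) t
  obtain ⟨i, _, j, _, e⟩ := (show y ∈ P from hy)
  exact pow5_of' f_comm O5_f1.1 O5_f2.1 e

open Cfsg.Agent.ChevalleyStructure.Tits.Pack Cfsg.Agent.ChevalleyStructure.Tits.Data
  Cfsg.Agent.ChevalleyStructure.Tits.Cert Cfsg.Agent.ChevalleyStructure.Tits.Rank2
  Cfsg.Agent.ChevalleyStructure.Tits.Sat Cfsg.Agent.ChevalleyStructure.Tits.Final
  Cfsg.Agent.ChevalleyStructure.Tits.Mat Cfsg.Agent.ChevalleyStructure.Tits.Order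
  Cfsg.Agent.ChevalleyStructure.Tits.Table Cfsg.Agent.ChevalleyStructure.Tits.Main
  Cfsg.Agent.H84.TitsConj Cfsg.Agent.H84.TitsCov Cfsg.Agent.H84.TitsCovData Cfsg.Agent.H84.TitsCovChk in
open Cfsg.Agent.H246.TitsComp hiding go go_ok go_zero go_succ_even go_succ_odd sound in
open scoped MatrixGroups in
theorem tits_aux (K : Subgroup (GL I52 (ZMod 2))) (hK : K = H0) (hF : ∀ t ∈ K, t ≠ 1 → Form t) :
    Pw ↥(commutator K) := by
  subst hK
  obtain ⟨χ, h0, h1⟩ := exists_chi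
  have hm := mem_commutator_iff χ (h1 7 (by norm_num) (by norm_num))
  have hf1 : f1 ∈ commutator H0 := (hm f1).2 (O5_sign χ O5_f1)
  have hf5 : Fact (Nat.Prime 5) := ⟨by norm_num⟩
  have h2 : orderOf (⟨f1, hf1⟩ : commutator H0) = 5 := by
    rw [← Subgroup.orderOf_coe]
    exact orderOf_eq_prime O5_f1.1 O5_f1.2
  have hcov : ∀ g : commutator H0, g ≠ 1 → ∃ u v : commutator H0,
      g = (u * (⟨f1, hf1⟩ : commutator H0) * u⁻¹) * (v * (⟨f1, hf1⟩ : commutator H0) * v⁻¹) := by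
    intro g hg
    have h3 : ((g : H0) : GL I52 (ZMod 2)) ≠ 1 := fun h => hg (Subtype.ext (Subtype.ext h))
    obtain ⟨a, ha, b, hb, h⟩ := cover_H0 g.2 (hF _ (g : H0).2 h3)
    exact ⟨⟨a, ha⟩, ⟨b, hb⟩, Subtype.ext h⟩
  refine ⟨all_of_cover (by rw [h2]; norm_num) hcov, fun p hp hp5 => ?_⟩
  by_cases h : p = 5
  · subst h
    refine all_of_conj (x₀ := (⟨f1, hf1⟩ : commutator H0)) (by norm_num) (by norm_num)
      (orderOf_dvd_iff_pow_eq_one.1 (by rw [h2])) (ne_one_of_orderOf h2)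
      (fun x hx hx1 => ?_) (fun g => ?_)
    · have hx' : O5 (x : H0) := by
        refine ⟨orderOf_dvd_iff_pow_eq_one.1 ?_, fun h => hx1 (Subtype.ext h)⟩
        rw [Subgroup.orderOf_coe]
        exact orderOf_dvd_iff_pow_eq_one.2 hx
      obtain ⟨t, ht, e⟩ := conj_comm hx'
      exact ⟨⟨t, ht⟩⁻¹, Subtype.ext (of_eq_conj e)⟩
    · rw [← Subgroup.orderOf_coe]
      exact exp_H0 _
  · exact all_of_cover (by rw [h2]; exact (Nat.coprime_primes (by norm_num) hp).2 (Ne.symm h)) hcov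

open Cfsg.Agent.ChevalleyStructure.Tits.Main in
theorem pw_titsGroup : Pw Cfsg.Lie.TitsGroup := by
  obtain ⟨φ, hφ⟩ := Cfsg.Agent.ChevalleyStructure.TwF4.TwistedFix.exists_rln Cfsg.Agent.H84.TitsLink.hK0
  refine tits_aux T0 T0_eq_H0 ?_
  intro t ht ht1
  obtain ⟨k, w, hw, v, hv, h⟩ := Cfsg.Agent.H84.TitsLink.form_of hφ (t := ⟨t, ht⟩) (fun h => ht1 (congrArg Subtype.val h))
  have hk : Cfsg.Agent.H84.TitsLink.cg k ∈ Cfsg.Agent.ChevalleyStructure.Tits.Order.H0 := by rw [← T0_eq_H0]; exact k.2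
  exact ⟨Cfsg.Agent.H84.TitsLink.cg k, hk, w, hw, v, hv, h⟩

theorem pw_tits {G : Type*} [Group G] (h : Cfsg.Lie.IsoTits G) : Pw G := by
  obtain ⟨e⟩ : Nonempty (G ≃* Cfsg.Lie.TitsGroup) := h
  exact transfer_commutator (Cfsg.Lie.twistedF4 (ZMod 2) 1) e pw_titsGroup

end Cfsg.Agent.H335.Pw
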